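import Mathlib

/-!
Tables for the cubic form of type E₆: the monomials, the root derivations, and the reduction steps
which move an isometry to the identity by root elements.
-/

set_option autoImplicit false
set_option maxRecDepth 20000

namespace Cfsg.Agent.H46.E6Cubic

/-- The 45 monomials `c x_a x_b x_d` as `(a, b, d, c)`. -/
def mons : List (ℕ × ℕ × ℕ × ℤ) := [
  (0, 4, 8, 1), (0, 5, 7, (-1)), (0, 9, 18, (-1)), (0, 10, 21, (-1)), (0, 11, 24, (-1)), (1, 3, 8, (-1)),
  (1, 5, 6, 1), (1, 12, 18, (-1)), (1, 13, 21, (-1)), (1, 14, 24, (-1)), (2, 3, 7, 1), (2, 4, 6, (-1)),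
  (2, 15, 18, (-1)), (2, 16, 21, (-1)), (2, 17, 24, (-1)), (3, 9, 19, (-1)), (3, 10, 22, (-1)),
  (3, 11, 25, (-1)), (4, 12, 19, (-1)), (4, 13, 22, (-1)), (4, 14, 25, (-1)), (5, 15, 19, (-1)),
  (5, 16, 22, (-1)), (5, 17, 25, (-1)), (6, 9, 20, (-1)), (6, 10, 23, (-1)), (6, 11, 26, (-1)),
  (7, 12, 20, (-1)), (7, 13, 23, (-1)), (7, 14, 26, (-1)), (8, 15, 20, (-1)), (8, 16, 23, (-1)),
  (8, 17, 26, (-1)), (9, 13, 17, 1), (9, 14, 16, (-1)), (10, 12, 17, (-1)), (10, 14, 15, 1),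
  (11, 12, 16, 1), (11, 13, 15, (-1)), (18, 22, 26, 1), (18, 23, 25, (-1)), (19, 21, 26, (-1)),
  (19, 23, 24, 1), (20, 21, 25, 1), (20, 22, 24, (-1))]

/-- The derivations of the roots as `(target, source, sign)`. -/
def rootTab : List (List (ℕ × ℕ × ℤ)) := [
  [(20, 3, 1), (19, 6, (-1)), (2, 12, 1), (1, 15, (-1)), (11, 21, 1), (10, 24, (-1))],
  [(10, 9, 1), (13, 12, 1), (16, 15, 1), (18, 21, (-1)), (19, 22, (-1)), (20, 23, (-1))],
  [(19, 0, 1), (18, 3, (-1)), (8, 12, 1), (7, 15, (-1)), (11, 23, 1), (10, 26, (-1))],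
  [(20, 0, 1), (18, 6, (-1)), (5, 12, (-1)), (4, 15, 1), (11, 22, (-1)), (10, 25, 1)],
  [(11, 9, 1), (14, 12, 1), (17, 15, 1), (18, 24, (-1)), (19, 25, (-1)), (20, 26, (-1))],
  [(13, 3, 1), (10, 4, (-1)), (25, 15, (-1)), (19, 17, 1), (8, 21, (-1)), (2, 23, 1)],
  [(13, 6, 1), (10, 7, (-1)), (26, 15, (-1)), (20, 17, 1), (5, 21, 1), (2, 22, (-1))],
  [(20, 4, (-1)), (19, 7, 1), (2, 9, 1), (0, 15, (-1)), (14, 21, (-1)), (13, 24, 1)],
  [(2, 0, 1), (5, 3, 1), (8, 6, 1), (9, 15, (-1)), (10, 16, (-1)), (11, 17, (-1))],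
  [(14, 3, (-1)), (11, 4, 1), (22, 15, (-1)), (19, 16, 1), (8, 24, 1), (2, 26, (-1))],
  [(14, 6, (-1)), (11, 7, 1), (23, 15, (-1)), (20, 16, 1), (5, 24, (-1)), (2, 25, 1)],
  [(13, 0, 1), (10, 1, (-1)), (24, 15, (-1)), (18, 17, 1), (8, 22, 1), (5, 23, (-1))],
  [(19, 1, 1), (18, 4, (-1)), (8, 9, (-1)), (6, 15, 1), (14, 23, 1), (13, 26, (-1))],
  [(20, 1, 1), (18, 7, (-1)), (5, 9, 1), (3, 15, (-1)), (14, 22, (-1)), (13, 25, 1)],
  [(14, 0, 1), (11, 1, (-1)), (21, 15, 1), (18, 16, (-1)), (8, 25, 1), (5, 26, (-1))],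
  [(2, 1, (-1)), (5, 4, (-1)), (8, 7, (-1)), (12, 15, 1), (13, 16, 1), (14, 17, 1)],
  [(16, 3, 1), (10, 5, (-1)), (25, 12, 1), (19, 14, (-1)), (7, 21, 1), (1, 23, (-1))],
  [(16, 6, 1), (10, 8, (-1)), (26, 12, 1), (20, 14, (-1)), (4, 21, (-1)), (1, 22, 1)],
  [(20, 5, (-1)), (19, 8, 1), (1, 9, (-1)), (0, 12, 1), (17, 21, (-1)), (16, 24, 1)],
  [(1, 0, (-1)), (4, 3, (-1)), (7, 6, (-1)), (9, 12, 1), (10, 13, 1), (11, 14, 1)],
  [(17, 3, (-1)), (11, 5, 1), (22, 12, 1), (19, 13, (-1)), (7, 24, (-1)), (1, 26, 1)],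
  [(17, 6, (-1)), (11, 8, 1), (23, 12, 1), (20, 13, (-1)), (4, 24, 1), (1, 25, (-1))],
  [(26, 3, 1), (25, 6, (-1)), (2, 14, 1), (1, 17, (-1)), (10, 18, 1), (9, 21, (-1))],
  [(0, 3, 1), (1, 4, 1), (2, 5, 1), (19, 18, (-1)), (22, 21, (-1)), (25, 24, (-1))],
  [(0, 6, 1), (1, 7, 1), (2, 8, 1), (20, 18, (-1)), (23, 21, (-1)), (26, 24, (-1))],
  [(23, 3, (-1)), (22, 6, 1), (2, 13, (-1)), (1, 16, 1), (11, 18, 1), (9, 24, (-1))],
  [(16, 0, 1), (10, 2, (-1)), (24, 12, 1), (18, 14, (-1)), (7, 22, (-1)), (4, 23, 1)],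
  [(19, 2, 1), (18, 5, (-1)), (7, 9, 1), (6, 12, (-1)), (17, 23, 1), (16, 26, (-1))],
  [(20, 2, 1), (18, 8, (-1)), (4, 9, (-1)), (3, 12, 1), (17, 22, (-1)), (16, 25, 1)],
  [(17, 0, 1), (11, 2, (-1)), (21, 12, (-1)), (18, 13, 1), (7, 25, (-1)), (4, 26, 1)],
  [(10, 11, (-1)), (13, 14, (-1)), (16, 17, (-1)), (24, 21, 1), (25, 22, 1), (26, 23, 1)],
  [(16, 4, 1), (13, 5, (-1)), (25, 9, (-1)), (19, 11, 1), (6, 21, (-1)), (0, 23, 1)],
  [(16, 7, 1), (13, 8, (-1)), (26, 9, (-1)), (20, 11, 1), (3, 21, 1), (0, 22, (-1))],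
  [(25, 0, 1), (24, 3, (-1)), (8, 14, 1), (7, 17, (-1)), (10, 20, 1), (9, 23, (-1))],
  [(6, 3, 1), (7, 4, 1), (8, 5, 1), (19, 20, (-1)), (22, 23, (-1)), (25, 26, (-1))],
  [(26, 0, (-1)), (24, 6, 1), (5, 14, 1), (4, 17, (-1)), (10, 19, 1), (9, 22, (-1))],
  [(17, 4, (-1)), (14, 5, 1), (22, 9, (-1)), (19, 10, 1), (6, 24, 1), (0, 26, (-1))],
  [(3, 6, 1), (4, 7, 1), (5, 8, 1), (20, 19, (-1)), (23, 22, (-1)), (26, 25, (-1))],
  [(17, 7, (-1)), (14, 8, 1), (23, 9, (-1)), (20, 10, 1), (3, 24, (-1)), (0, 25, 1)],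
  [(22, 0, (-1)), (21, 3, 1), (8, 13, (-1)), (7, 16, 1), (11, 20, 1), (9, 26, (-1))],
  [(23, 0, 1), (21, 6, (-1)), (5, 13, (-1)), (4, 16, 1), (11, 19, 1), (9, 25, (-1))],
  [(11, 10, (-1)), (14, 13, (-1)), (17, 16, (-1)), (21, 24, 1), (22, 25, 1), (23, 26, 1)],
  [(26, 4, 1), (25, 7, (-1)), (2, 11, (-1)), (0, 17, 1), (13, 18, 1), (12, 21, (-1))],
  [(12, 3, 1), (9, 4, (-1)), (25, 16, 1), (22, 17, (-1)), (8, 18, (-1)), (2, 20, 1)],
  [(12, 6, (-1)), (9, 7, 1), (26, 16, (-1)), (23, 17, 1), (5, 18, (-1)), (2, 19, 1)],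
  [(23, 4, 1), (22, 7, (-1)), (2, 10, (-1)), (0, 16, 1), (14, 18, (-1)), (12, 24, 1)],
  [(16, 1, 1), (13, 2, (-1)), (24, 9, (-1)), (18, 11, 1), (6, 22, 1), (3, 23, (-1))],
  [(6, 0, 1), (7, 1, 1), (8, 2, 1), (18, 20, (-1)), (21, 23, (-1)), (24, 26, (-1))],
  [(3, 0, 1), (4, 1, 1), (5, 2, 1), (18, 19, (-1)), (21, 22, (-1)), (24, 25, (-1))],
  [(17, 1, (-1)), (14, 2, 1), (21, 9, (-1)), (18, 10, 1), (6, 25, (-1)), (3, 26, 1)],
  [(25, 1, (-1)), (24, 4, 1), (8, 11, 1), (6, 17, (-1)), (13, 20, (-1)), (12, 23, 1)],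
  [(26, 1, 1), (24, 7, (-1)), (5, 11, 1), (3, 17, (-1)), (13, 19, (-1)), (12, 22, 1)],
  [(0, 1, (-1)), (3, 4, (-1)), (6, 7, (-1)), (12, 9, 1), (13, 10, 1), (14, 11, 1)],
  [(12, 0, 1), (9, 1, (-1)), (24, 16, 1), (21, 17, (-1)), (8, 19, 1), (5, 20, (-1))],
  [(22, 1, 1), (21, 4, (-1)), (8, 10, (-1)), (6, 16, 1), (14, 20, (-1)), (12, 26, 1)],
  [(23, 1, (-1)), (21, 7, 1), (5, 10, (-1)), (3, 16, 1), (14, 19, (-1)), (12, 25, 1)],
  [(1, 2, (-1)), (4, 5, (-1)), (7, 8, (-1)), (15, 12, 1), (16, 13, 1), (17, 14, 1)],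
  [(26, 5, (-1)), (25, 8, 1), (1, 11, (-1)), (0, 14, 1), (16, 18, (-1)), (15, 21, 1)],
  [(15, 3, (-1)), (9, 5, 1), (25, 13, 1), (22, 14, (-1)), (7, 18, (-1)), (1, 20, 1)],
  [(15, 6, 1), (9, 8, (-1)), (26, 13, (-1)), (23, 14, 1), (4, 18, (-1)), (1, 19, 1)],
  [(23, 5, (-1)), (22, 8, 1), (1, 10, (-1)), (0, 13, 1), (17, 18, 1), (15, 24, (-1))],
  [(25, 2, 1), (24, 5, (-1)), (7, 11, 1), (6, 14, (-1)), (16, 20, 1), (15, 23, (-1))],
  [(26, 2, (-1)), (24, 8, 1), (4, 11, 1), (3, 14, (-1)), (16, 19, 1), (15, 22, (-1))],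
  [(0, 2, 1), (3, 5, 1), (6, 8, 1), (15, 9, (-1)), (16, 10, (-1)), (17, 11, (-1))],
  [(15, 0, (-1)), (9, 2, 1), (24, 13, 1), (21, 14, (-1)), (7, 19, 1), (4, 20, (-1))],
  [(22, 2, (-1)), (21, 5, 1), (7, 10, (-1)), (6, 13, 1), (17, 20, 1), (15, 26, (-1))],
  [(23, 2, 1), (21, 8, (-1)), (4, 10, (-1)), (3, 13, 1), (17, 19, 1), (15, 25, (-1))],
  [(9, 11, 1), (12, 14, 1), (15, 17, 1), (24, 18, (-1)), (25, 19, (-1)), (26, 20, (-1))],
  [(15, 4, 1), (12, 5, (-1)), (25, 10, 1), (22, 11, (-1)), (6, 18, (-1)), (0, 20, 1)],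
  [(15, 7, (-1)), (12, 8, 1), (26, 10, (-1)), (23, 11, 1), (3, 18, (-1)), (0, 19, 1)],
  [(9, 10, 1), (12, 13, 1), (15, 16, 1), (21, 18, (-1)), (22, 19, (-1)), (23, 20, (-1))],
  [(15, 1, (-1)), (12, 2, 1), (24, 10, (-1)), (21, 11, 1), (6, 19, (-1)), (3, 20, 1)]]

/-- For each root `k`, two roots with commutator in the root subgroup of `k`. -/
def perfTab : List (ℕ × ℕ) := [
  (1, 25), (0, 46), (0, 47), (0, 48), (0, 49), (0, 50), (0, 51), (0, 52), (0, 53), (0, 54), (0, 55),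
  (1, 53), (1, 54), (1, 55), (2, 55), (5, 55), (0, 61), (0, 62), (0, 63), (0, 64), (0, 65), (0, 66),
  (0, 67), (0, 68), (0, 69), (0, 70), (1, 64), (1, 65), (1, 66), (2, 66), (1, 67), (1, 68), (1, 69),
  (2, 67), (2, 68), (3, 67), (4, 68), (3, 69), (4, 69), (2, 70), (3, 70), (4, 70), (5, 69), (5, 70),
  (6, 70), (7, 70), (1, 71), (2, 71), (3, 71), (4, 71), (5, 71), (6, 71), (7, 71), (8, 71), (9, 71),
  (10, 71), (16, 66), (16, 69), (16, 70), (17, 70), (18, 70), (16, 71), (17, 71), (18, 71), (19, 71),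
  (20, 71), (21, 71), (22, 71), (23, 71), (24, 71), (25, 71), (46, 70)]

/-- How the coordinate of the new point becomes one. -/
inductive Init
  | closure (j k : ℕ)
  | seed (z r : ℕ) (s : ℤ) (jw : Option ℕ) (path : List (ℕ × ℕ × ℕ × ℤ))

/-- One reduction step. -/
structure Step where
  b : ℕ
  init : Init
  zero : List (ℕ × Bool × ℕ × ℕ)
  clear : List (ℕ × ℕ × ℤ)
  rest : List (ℕ × ℕ)

/-- The reduction steps, in order. -/
def steps : List Step := [
  { b := 0
    init := .seed 1 52 (-1) none [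
      (6, 7, 19, (-1)), (24, 4, 21, 1), (21, 4, 17, (-1)), (18, 4, 59, (-1)), (3, 4, 19, (-1)),
      (14, 2, 22, 1), (13, 2, 25, (-1)), (12, 2, 0, 1), (8, 2, 24, 1), (5, 2, 23, 1), (0, 1, 19, (-1)),
      (26, 1, 20, 1), (25, 1, 21, (-1)), (23, 1, 16, (-1)), (22, 1, 17, 1), (20, 1, 58, 1), (19, 1, 59, 1),
      (17, 1, 22, (-1)), (16, 1, 25, 1), (15, 1, 0, (-1)), (11, 1, 57, (-1)), (10, 1, 60, (-1)),
      (9, 1, 18, (-1)), (7, 1, 24, 1), (4, 1, 23, 1), (2, 1, 56, (-1))]
    zero := []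
    clear := [
      (1, 19, (-1)), (2, 8, 1), (3, 48, 1), (6, 47, 1), (12, 53, 1), (13, 11, 1), (14, 14, 1),
      (15, 64, (-1)), (16, 26, 1), (17, 29, 1), (19, 2, 1), (20, 3, 1), (22, 39, (-1)), (23, 40, 1),
      (25, 33, 1), (26, 35, (-1))]
    rest := [
      (4, 8), (5, 7), (7, 5), (8, 4), (9, 18), (10, 21), (11, 24), (18, 9), (21, 10), (24, 11)] },
  { b := 4
    init := .seed 5 56 (-1) (some 0) [
      (7, 4, 37, 1), (24, 5, 10, (-1)), (21, 5, 6, 1), (18, 5, 44, (-1)), (11, 5, 51, 1), (10, 5, 55, (-1)),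
      (9, 5, 13, 1), (8, 5, 37, 1), (4, 5, 15, (-1))]
    zero := []
    clear := [
      (1, 23, 1), (3, 52, (-1)), (5, 15, (-1)), (7, 34, 1), (9, 43, (-1)), (10, 5, (-1)), (11, 9, 1),
      (15, 68, 1), (16, 31, 1), (17, 36, (-1)), (18, 12, (-1)), (20, 7, (-1)), (21, 54, (-1)), (23, 45, 1),
      (24, 50, 1), (26, 42, 1)]
    rest := [
      (0, 8), (2, 6), (6, 2), (8, 0), (12, 19), (13, 22), (14, 25), (19, 12), (22, 13), (25, 14)] },
  { b := 8
    init := .closure 0 4
    zero := []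
    clear := [
      (2, 24, 1), (5, 37, 1), (6, 63, 1), (7, 56, (-1)), (9, 59, (-1)), (10, 17, (-1)), (11, 21, 1),
      (12, 69, 1), (13, 32, (-1)), (14, 38, 1), (18, 28, (-1)), (19, 18, 1), (21, 66, (-1)), (22, 60, 1),
      (24, 62, 1), (25, 57, 1)]
    rest := [
      (0, 4), (1, 3), (3, 1), (4, 0), (15, 20), (16, 23), (17, 26), (20, 15), (23, 16), (26, 17)] },
  { b := 1
    init := .seed 15 0 (-1) (some 8) [
      (20, 1, 58, 1), (26, 15, 65, (-1)), (23, 15, 61, (-1)), (17, 15, 67, 1), (16, 15, 70, 1),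
      (3, 15, 58, (-1)), (1, 15, 71, (-1))]
    zero := [
      (0, true, 4, 8), (2, true, 4, 6), (4, true, 0, 8), (5, true, 0, 7), (6, true, 4, 2), (7, true, 0, 5),
      (8, true, 0, 4), (9, true, 0, 18), (10, true, 0, 21), (11, true, 0, 24), (12, true, 4, 19),
      (13, true, 4, 22), (14, true, 4, 25), (18, true, 0, 9), (19, true, 4, 12), (21, true, 0, 10),
      (22, true, 4, 13), (24, true, 0, 11), (25, true, 4, 14)]
    clear := [
      (15, 71, (-1)), (16, 46, 1), (17, 49, (-1)), (20, 13, 1), (23, 55, (-1)), (26, 51, 1)]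
    rest := [
      (3, 8)] },
  { b := 3
    init := .closure 8 1
    zero := [
      (0, true, 4, 8), (2, true, 4, 6), (4, true, 0, 8), (5, true, 0, 7), (6, true, 4, 2), (7, true, 0, 5),
      (8, true, 0, 4), (9, true, 0, 18), (10, true, 0, 21), (11, true, 0, 24), (12, true, 4, 19),
      (13, true, 4, 22), (14, true, 4, 25), (18, true, 0, 9), (19, true, 4, 12), (21, true, 0, 10),
      (22, true, 4, 13), (24, true, 0, 11), (25, true, 4, 14)]
    clear := [
      (15, 58, (-1)), (16, 16, 1), (17, 20, (-1)), (20, 0, 1), (23, 25, (-1)), (26, 22, 1)]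
    rest := [
      (1, 8)] },
  { b := 2
    init := .seed 19 44 1 (some 4) [
      (25, 19, 4, (-1)), (22, 19, 1, (-1)), (2, 19, 27, 1)]
    zero := [
      (0, true, 8, 4), (1, true, 8, 3), (3, true, 8, 1), (4, true, 0, 8), (5, true, 0, 7), (6, true, 1, 5),
      (7, true, 0, 5), (8, true, 0, 4), (9, true, 0, 18), (10, true, 0, 21), (11, true, 0, 24),
      (12, true, 1, 18), (13, true, 1, 21), (14, true, 1, 24), (15, true, 8, 20), (16, true, 8, 23),
      (17, true, 8, 26), (18, true, 0, 9), (20, true, 8, 15), (21, true, 0, 10), (23, true, 8, 16),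
      (24, true, 0, 11), (26, true, 8, 17)]
    clear := [
      (19, 27, 1), (22, 65, (-1)), (25, 61, 1)]
    rest := [] },
  { b := 6
    init := .closure 4 2
    zero := [
      (0, true, 8, 4), (1, true, 8, 3), (2, true, 3, 7), (3, true, 8, 1), (4, true, 0, 8), (5, true, 0, 7),
      (7, true, 0, 5), (8, true, 0, 4), (9, true, 0, 18), (10, true, 0, 21), (11, true, 0, 24),
      (15, true, 8, 20), (16, true, 8, 23), (17, true, 8, 26), (18, true, 0, 9), (19, true, 3, 9),
      (20, true, 8, 15), (21, true, 0, 10), (22, true, 3, 10), (23, true, 8, 16), (24, true, 0, 11),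
      (25, true, 3, 11), (26, true, 8, 17)]
    clear := [
      (12, 44, (-1)), (13, 6, 1), (14, 10, (-1))]
    rest := [] },
  { b := 5
    init := .closure 1 6
    zero := [
      (0, true, 4, 8), (1, true, 8, 3), (2, true, 4, 6), (3, true, 8, 1), (4, true, 8, 0), (6, true, 4, 2),
      (7, true, 3, 2), (8, true, 4, 0), (9, true, 3, 19), (10, true, 3, 22), (11, true, 3, 25),
      (12, true, 4, 19), (13, true, 4, 22), (14, true, 4, 25), (15, true, 8, 20), (16, true, 8, 23),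
      (17, true, 8, 26), (18, true, 2, 15), (19, true, 4, 12), (20, true, 8, 15), (21, true, 2, 16),
      (22, true, 4, 13), (23, true, 8, 16), (24, true, 2, 17), (25, true, 4, 14), (26, true, 8, 17)]
    clear := []
    rest := [] },
  { b := 7
    init := .closure 0 5
    zero := [
      (0, true, 4, 8), (1, true, 8, 3), (2, true, 4, 6), (3, true, 8, 1), (4, true, 8, 0), (5, true, 1, 6),
      (6, true, 4, 2), (8, true, 4, 0), (9, true, 6, 20), (10, true, 6, 23), (11, true, 6, 26),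
      (12, true, 4, 19), (13, true, 4, 22), (14, true, 4, 25), (15, true, 8, 20), (16, true, 8, 23),
      (17, true, 8, 26), (18, true, 1, 12), (19, true, 4, 12), (20, true, 8, 15), (21, true, 1, 13),
      (22, true, 4, 13), (23, true, 8, 16), (24, true, 1, 14), (25, true, 4, 14), (26, true, 8, 17)]
    clear := []
    rest := [] },
  { b := 9
    init := .seed 10 70 1 (some 0) [
      (11, 10, 30, (-1)), (9, 10, 1, 1)]
    zero := [
      (0, true, 4, 8), (1, true, 8, 3), (2, true, 4, 6), (3, true, 8, 1), (4, true, 8, 0), (5, true, 1, 6),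
      (6, true, 4, 2), (7, true, 2, 3), (8, true, 4, 0), (12, true, 4, 19), (13, true, 4, 22),
      (14, true, 4, 25), (15, true, 8, 20), (16, true, 8, 23), (17, true, 8, 26), (18, true, 1, 12),
      (19, true, 4, 12), (20, true, 8, 15), (21, true, 1, 13), (22, true, 4, 13), (23, true, 8, 16),
      (24, true, 1, 14), (25, true, 4, 14), (26, true, 8, 17)]
    clear := [
      (10, 1, 1), (11, 4, 1)]
    rest := [] },
  { b := 18
    init := .closure 0 9
    zero := [
      (0, true, 4, 8), (1, true, 8, 3), (2, true, 4, 6), (3, true, 8, 1), (4, true, 8, 0), (5, true, 6, 1),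
      (6, true, 4, 2), (7, true, 3, 2), (8, true, 4, 0), (9, true, 3, 19), (10, true, 3, 22),
      (11, true, 3, 25), (12, true, 4, 19), (13, true, 4, 22), (14, true, 4, 25), (15, true, 8, 20),
      (16, true, 8, 23), (17, true, 8, 26), (19, true, 4, 12), (20, true, 8, 15), (22, true, 4, 13),
      (23, true, 8, 16), (25, true, 4, 14), (26, true, 8, 17)]
    clear := [
      (21, 70, (-1)), (24, 67, (-1))]
    rest := [] },
  { b := 12
    init := .closure 1 18
    zero := [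
      (0, true, 8, 4), (1, true, 8, 3), (2, true, 3, 7), (3, true, 8, 1), (4, true, 0, 8), (5, true, 0, 7),
      (6, true, 2, 4), (7, true, 0, 5), (8, true, 0, 4), (9, true, 0, 18), (10, true, 0, 21),
      (11, true, 0, 24), (13, true, 9, 17), (14, true, 9, 16), (15, true, 8, 20), (16, true, 8, 23),
      (17, true, 8, 26), (18, true, 0, 9), (19, true, 3, 9), (20, true, 8, 15), (21, true, 0, 10),
      (22, true, 3, 10), (23, true, 8, 16), (24, true, 0, 11), (25, true, 3, 11), (26, true, 8, 17)]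
    clear := []
    rest := [] },
  { b := 19
    init := .closure 4 12
    zero := [
      (0, true, 8, 4), (1, true, 8, 3), (2, true, 6, 4), (3, true, 8, 1), (4, true, 0, 8), (5, true, 0, 7),
      (6, true, 1, 5), (7, true, 0, 5), (8, true, 0, 4), (9, true, 0, 18), (10, true, 0, 21),
      (11, true, 0, 24), (12, true, 1, 18), (13, true, 1, 21), (14, true, 1, 24), (15, true, 8, 20),
      (16, true, 8, 23), (17, true, 8, 26), (18, true, 0, 9), (20, true, 8, 15), (21, true, 0, 10),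
      (22, true, 18, 26), (23, true, 8, 16), (24, true, 0, 11), (25, true, 18, 23), (26, true, 8, 17)]
    clear := []
    rest := [] },
  { b := 15
    init := .closure 2 18
    zero := [
      (0, true, 4, 8), (1, true, 3, 8), (2, true, 4, 6), (3, true, 1, 8), (4, true, 0, 8), (5, true, 0, 7),
      (6, true, 4, 2), (7, true, 0, 5), (8, true, 0, 4), (9, true, 0, 18), (10, true, 0, 21),
      (11, true, 0, 24), (12, true, 4, 19), (13, true, 4, 22), (14, true, 4, 25), (16, true, 9, 14),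
      (17, true, 9, 13), (18, true, 0, 9), (19, true, 4, 12), (20, true, 6, 9), (21, true, 0, 10),
      (22, true, 4, 13), (23, true, 6, 10), (24, true, 0, 11), (25, true, 4, 14), (26, true, 6, 11)]
    clear := []
    rest := [] },
  { b := 20
    init := .closure 8 15
    zero := [
      (0, true, 4, 8), (1, true, 3, 8), (2, true, 4, 6), (3, true, 1, 8), (4, true, 0, 8), (5, true, 0, 7),
      (6, true, 4, 2), (7, true, 0, 5), (8, true, 0, 4), (9, true, 0, 18), (10, true, 0, 21),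
      (11, true, 0, 24), (12, true, 4, 19), (13, true, 4, 22), (14, true, 4, 25), (15, true, 2, 18),
      (16, true, 2, 21), (17, true, 2, 24), (18, true, 0, 9), (19, true, 4, 12), (21, true, 0, 10),
      (22, true, 4, 13), (23, true, 18, 25), (24, true, 0, 11), (25, true, 4, 14), (26, true, 18, 22)]
    clear := []
    rest := [] },
  { b := 10
    init := .seed 11 30 (-1) (some 0) [
      (10, 11, 41, (-1))]
    zero := [
      (0, true, 4, 8), (1, true, 8, 3), (2, true, 4, 6), (3, true, 8, 1), (4, true, 8, 0), (5, true, 1, 6),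
      (6, true, 4, 2), (7, true, 2, 3), (8, true, 4, 0), (9, true, 18, 0), (12, true, 4, 19),
      (13, true, 4, 22), (14, true, 4, 25), (15, true, 8, 20), (16, true, 8, 23), (17, true, 8, 26),
      (18, true, 1, 12), (19, true, 4, 12), (20, true, 8, 15), (21, true, 1, 13), (22, true, 4, 13),
      (23, true, 8, 16), (24, true, 1, 14), (25, true, 4, 14), (26, true, 8, 17)]
    clear := [
      (11, 41, (-1))]
    rest := [] },
  { b := 21
    init := .closure 0 10
    zero := [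
      (0, true, 4, 8), (1, true, 8, 3), (2, true, 4, 6), (3, true, 8, 1), (4, true, 8, 0), (5, true, 6, 1),
      (6, true, 4, 2), (7, true, 3, 2), (8, true, 4, 0), (9, true, 3, 19), (10, true, 3, 22),
      (11, true, 3, 25), (12, true, 4, 19), (13, true, 4, 22), (14, true, 4, 25), (15, true, 8, 20),
      (16, true, 8, 23), (17, true, 8, 26), (18, true, 9, 0), (19, true, 4, 12), (20, true, 8, 15),
      (22, true, 4, 13), (23, true, 8, 16), (25, true, 4, 14), (26, true, 8, 17)]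
    clear := [
      (24, 30, 1)]
    rest := [] },
  { b := 13
    init := .closure 1 21
    zero := [
      (0, true, 8, 4), (1, true, 8, 3), (2, true, 3, 7), (3, true, 8, 1), (4, true, 0, 8), (5, true, 0, 7),
      (6, true, 2, 4), (7, true, 0, 5), (8, true, 0, 4), (9, true, 0, 18), (10, true, 0, 21),
      (11, true, 0, 24), (12, true, 18, 1), (14, true, 10, 15), (15, true, 8, 20), (16, true, 8, 23),
      (17, true, 8, 26), (18, true, 0, 9), (19, true, 3, 9), (20, true, 8, 15), (21, true, 0, 10),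
      (22, true, 3, 10), (23, true, 8, 16), (24, true, 0, 11), (25, true, 3, 11), (26, true, 8, 17)]
    clear := []
    rest := [] },
  { b := 22
    init := .closure 4 13
    zero := [
      (0, true, 8, 4), (1, true, 8, 3), (2, true, 6, 4), (3, true, 8, 1), (4, true, 0, 8), (5, true, 0, 7),
      (6, true, 1, 5), (7, true, 0, 5), (8, true, 0, 4), (9, true, 0, 18), (10, true, 0, 21),
      (11, true, 0, 24), (12, true, 1, 18), (13, true, 1, 21), (14, true, 1, 24), (15, true, 8, 20),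
      (16, true, 8, 23), (17, true, 8, 26), (18, true, 0, 9), (19, true, 9, 3), (20, true, 8, 15),
      (21, true, 0, 10), (23, true, 8, 16), (24, true, 0, 11), (25, true, 21, 20), (26, true, 8, 17)]
    clear := []
    rest := [] },
  { b := 16
    init := .closure 2 21
    zero := [
      (0, true, 4, 8), (1, true, 3, 8), (2, true, 4, 6), (3, true, 1, 8), (4, true, 0, 8), (5, true, 0, 7),
      (6, true, 4, 2), (7, true, 0, 5), (8, true, 0, 4), (9, true, 0, 18), (10, true, 0, 21),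
      (11, true, 0, 24), (12, true, 4, 19), (13, true, 4, 22), (14, true, 4, 25), (15, true, 18, 2),
      (17, true, 10, 12), (18, true, 0, 9), (19, true, 4, 12), (20, true, 6, 9), (21, true, 0, 10),
      (22, true, 4, 13), (23, true, 6, 10), (24, true, 0, 11), (25, true, 4, 14), (26, true, 6, 11)]
    clear := []
    rest := [] },
  { b := 23
    init := .closure 8 16
    zero := [
      (0, true, 4, 8), (1, true, 3, 8), (2, true, 4, 6), (3, true, 1, 8), (4, true, 0, 8), (5, true, 0, 7),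
      (6, true, 4, 2), (7, true, 0, 5), (8, true, 0, 4), (9, true, 0, 18), (10, true, 0, 21),
      (11, true, 0, 24), (12, true, 4, 19), (13, true, 4, 22), (14, true, 4, 25), (15, true, 2, 18),
      (16, true, 2, 21), (17, true, 2, 24), (18, true, 0, 9), (19, true, 4, 12), (20, true, 9, 6),
      (21, true, 0, 10), (22, true, 4, 13), (24, true, 0, 11), (25, true, 4, 14), (26, true, 21, 19)]
    clear := []
    rest := [] },
  { b := 17
    init := .closure 9 13
    zero := [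
      (0, true, 4, 8), (1, true, 3, 8), (2, true, 4, 6), (3, true, 1, 8), (4, true, 0, 8), (5, true, 0, 7),
      (6, true, 4, 2), (7, true, 0, 5), (8, true, 0, 4), (9, true, 0, 18), (10, true, 0, 21),
      (11, true, 0, 24), (12, true, 4, 19), (13, true, 4, 22), (14, true, 4, 25), (15, true, 18, 2),
      (16, true, 21, 2), (18, true, 0, 9), (19, true, 4, 12), (20, true, 6, 9), (21, true, 0, 10),
      (22, true, 4, 13), (23, true, 6, 10), (24, true, 0, 11), (25, true, 4, 14), (26, true, 6, 11)]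
    clear := []
    rest := [] },
  { b := 26
    init := .closure 8 17
    zero := [
      (0, true, 4, 8), (1, true, 3, 8), (2, true, 4, 6), (3, true, 1, 8), (4, true, 0, 8), (5, true, 0, 7),
      (6, true, 4, 2), (7, true, 0, 5), (8, true, 0, 4), (9, true, 0, 18), (10, true, 0, 21),
      (11, true, 0, 24), (12, true, 4, 19), (13, true, 4, 22), (14, true, 4, 25), (15, true, 2, 18),
      (16, true, 2, 21), (17, true, 2, 24), (18, true, 0, 9), (19, true, 4, 12), (20, true, 9, 6),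
      (21, true, 0, 10), (22, true, 4, 13), (23, true, 10, 6), (24, true, 0, 11), (25, true, 4, 14)]
    clear := []
    rest := [] },
  { b := 24
    init := .closure 2 17
    zero := [
      (0, true, 4, 8), (1, true, 8, 3), (2, true, 4, 6), (3, true, 8, 1), (4, true, 8, 0), (5, true, 6, 1),
      (6, true, 4, 2), (7, true, 3, 2), (8, true, 4, 0), (9, true, 3, 19), (10, true, 3, 22),
      (11, true, 3, 25), (12, true, 4, 19), (13, true, 4, 22), (14, true, 4, 25), (15, true, 8, 20),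
      (16, true, 8, 23), (17, true, 8, 26), (18, true, 9, 0), (19, true, 4, 12), (20, true, 8, 15),
      (21, true, 10, 0), (22, true, 4, 13), (23, true, 8, 16), (25, true, 4, 14), (26, true, 8, 17)]
    clear := []
    rest := [] },
  { b := 11
    init := .closure 0 24
    zero := [
      (0, true, 4, 8), (1, true, 8, 3), (2, true, 4, 6), (3, true, 8, 1), (4, true, 8, 0), (5, true, 1, 6),
      (6, true, 4, 2), (7, true, 2, 3), (8, true, 4, 0), (9, true, 18, 0), (10, true, 21, 0),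
      (12, true, 4, 19), (13, true, 4, 22), (14, true, 4, 25), (15, true, 8, 20), (16, true, 8, 23),
      (17, true, 8, 26), (18, true, 1, 12), (19, true, 4, 12), (20, true, 8, 15), (21, true, 1, 13),
      (22, true, 4, 13), (23, true, 8, 16), (24, true, 1, 14), (25, true, 4, 14), (26, true, 8, 17)]
    clear := []
    rest := [] },
  { b := 14
    init := .closure 1 24
    zero := [
      (0, true, 8, 4), (1, true, 8, 3), (2, true, 3, 7), (3, true, 8, 1), (4, true, 0, 8), (5, true, 0, 7),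
      (6, true, 2, 4), (7, true, 0, 5), (8, true, 0, 4), (9, true, 0, 18), (10, true, 0, 21),
      (11, true, 0, 24), (12, true, 18, 1), (13, true, 21, 1), (15, true, 8, 20), (16, true, 8, 23),
      (17, true, 8, 26), (18, true, 0, 9), (19, true, 3, 9), (20, true, 8, 15), (21, true, 0, 10),
      (22, true, 3, 10), (23, true, 8, 16), (24, true, 0, 11), (25, true, 3, 11), (26, true, 8, 17)]
    clear := []
    rest := [] },
  { b := 25
    init := .closure 4 14
    zero := [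
      (0, true, 8, 4), (1, true, 8, 3), (2, true, 6, 4), (3, true, 8, 1), (4, true, 0, 8), (5, true, 0, 7),
      (6, true, 1, 5), (7, true, 0, 5), (8, true, 0, 4), (9, true, 0, 18), (10, true, 0, 21),
      (11, true, 0, 24), (12, true, 1, 18), (13, true, 1, 21), (14, true, 1, 24), (15, true, 8, 20),
      (16, true, 8, 23), (17, true, 8, 26), (18, true, 0, 9), (19, true, 9, 3), (20, true, 8, 15),
      (21, true, 0, 10), (22, true, 10, 3), (23, true, 8, 16), (24, true, 0, 11), (26, true, 8, 17)]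
    clear := []
    rest := [] }]

end Cfsg.Agent.H46.E6Cubic
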